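import Cfsg.Agent.Lib.Helper9.TCData.HeB0.Main

set_option autoImplicit false
set_option maxRecDepth 1000000

namespace Cfsg.Agent.Helper9.TCData.HeB0
open Cfsg.Agent.Helper9.TC2

theorem ol_0 : allRange 0 2058 (fun u => Nat.blt (orb.lab u) 5) = true := by decide +kernel


end Cfsg.Agent.Helper9.TCData.HeB0
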