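import Cfsg.Agent.Lib.Helper9.TCData.HeB0.Main

set_option autoImplicit false
set_option maxRecDepth 1000000

namespace Cfsg.Agent.Helper9.TCData.HeB0
open Cfsg.Agent.Helper9.TC2

theorem sl_24 : allRange 432 18 (fun u => chkSlp tab slp u) = true := by decide +kernel

theorem sl_25 : allRange 450 18 (fun u => chkSlp tab slp u) = true := by decide +kernel

theorem sl_26 : allRange 468 18 (fun u => chkSlp tab slp u) = true := by decide +kernel

theorem sl_27 : allRange 486 18 (fun u => chkSlp tab slp u) = true := by decide +kernel

theorem sl_28 : allRange 504 18 (fun u => chkSlp tab slp u) = true := by decide +kernel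

theorem sl_29 : allRange 522 18 (fun u => chkSlp tab slp u) = true := by decide +kernel

theorem sl_30 : allRange 540 18 (fun u => chkSlp tab slp u) = true := by decide +kernel

theorem sl_31 : allRange 558 18 (fun u => chkSlp tab slp u) = true := by decide +kernel


end Cfsg.Agent.Helper9.TCData.HeB0
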