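import Cfsg.Agent.Lib.Helper9.TCData.HeB0.Main

set_option autoImplicit false
set_option maxRecDepth 1000000

namespace Cfsg.Agent.Helper9.TCData.HeB0
open Cfsg.Agent.Helper9.TC2

theorem sl_32 : allRange 576 18 (fun u => chkSlp tab slp u) = true := by decide +kernel

theorem sl_33 : allRange 594 18 (fun u => chkSlp tab slp u) = true := by decide +kernel

theorem sl_34 : allRange 612 18 (fun u => chkSlp tab slp u) = true := by decide +kernel

theorem sl_35 : allRange 630 18 (fun u => chkSlp tab slp u) = true := by decide +kernel

theorem sl_36 : allRange 648 18 (fun u => chkSlp tab slp u) = true := by decide +kernel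

theorem sl_37 : allRange 666 18 (fun u => chkSlp tab slp u) = true := by decide +kernel

theorem sl_38 : allRange 684 18 (fun u => chkSlp tab slp u) = true := by decide +kernel

theorem sl_39 : allRange 702 18 (fun u => chkSlp tab slp u) = true := by decide +kernel


end Cfsg.Agent.Helper9.TCData.HeB0
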