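import Cfsg.Agent.Lib.Helper9.TCData.HeB0.Main

set_option autoImplicit false
set_option maxRecDepth 1000000

namespace Cfsg.Agent.Helper9.TCData.HeB0
open Cfsg.Agent.Helper9.TC2

theorem e4_1 : allRange 2948 3259 (fun u => chkE tab 4 u) = true := by decide +kernel

theorem e4_2 : allRange 6207 3765 (fun u => chkE tab 4 u) = true := by decide +kernel

theorem e5_0 : allRange 0 3296 (fun u => chkE tab 5 u) = true := by decide +kernel

theorem e5_1 : allRange 3296 3883 (fun u => chkE tab 5 u) = true := by decide +kernel

theorem e5_2 : allRange 7179 2793 (fun u => chkE tab 5 u) = true := by decide +kernel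

theorem e6_0 : allRange 0 3181 (fun u => chkE tab 6 u) = true := by decide +kernel

theorem e6_1 : allRange 3181 3440 (fun u => chkE tab 6 u) = true := by decide +kernel

theorem e6_2 : allRange 6621 3351 (fun u => chkE tab 6 u) = true := by decide +kernel


end Cfsg.Agent.Helper9.TCData.HeB0
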