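import Cfsg.Agent.Lib.Helper9.TCData.HeB0.Main

set_option autoImplicit false
set_option maxRecDepth 1000000

namespace Cfsg.Agent.Helper9.TCData.HeB0
open Cfsg.Agent.Helper9.TC2

theorem sl_88 : allRange 1584 18 (fun u => chkSlp tab slp u) = true := by decide +kernel

theorem sl_89 : allRange 1602 18 (fun u => chkSlp tab slp u) = true := by decide +kernel

theorem sl_90 : allRange 1620 18 (fun u => chkSlp tab slp u) = true := by decide +kernel

theorem sl_91 : allRange 1638 18 (fun u => chkSlp tab slp u) = true := by decide +kernel

theorem sl_92 : allRange 1656 18 (fun u => chkSlp tab slp u) = true := by decide +kernel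

theorem sl_93 : allRange 1674 18 (fun u => chkSlp tab slp u) = true := by decide +kernel

theorem sl_94 : allRange 1692 18 (fun u => chkSlp tab slp u) = true := by decide +kernel

theorem sl_95 : allRange 1710 18 (fun u => chkSlp tab slp u) = true := by decide +kernel


end Cfsg.Agent.Helper9.TCData.HeB0
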