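import Cfsg.Agent.Lib.Helper9.TCData.HeB0.Main

set_option autoImplicit false
set_option maxRecDepth 1000000

namespace Cfsg.Agent.Helper9.TCData.HeB0
open Cfsg.Agent.Helper9.TC2

theorem sl_104 : allRange 1872 18 (fun u => chkSlp tab slp u) = true := by decide +kernel

theorem sl_105 : allRange 1890 18 (fun u => chkSlp tab slp u) = true := by decide +kernel

theorem sl_106 : allRange 1908 18 (fun u => chkSlp tab slp u) = true := by decide +kernel

theorem sl_107 : allRange 1926 18 (fun u => chkSlp tab slp u) = true := by decide +kernel

theorem sl_108 : allRange 1944 18 (fun u => chkSlp tab slp u) = true := by decide +kernel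

theorem sl_109 : allRange 1962 18 (fun u => chkSlp tab slp u) = true := by decide +kernel

theorem sl_110 : allRange 1980 18 (fun u => chkSlp tab slp u) = true := by decide +kernel

theorem sl_111 : allRange 1998 18 (fun u => chkSlp tab slp u) = true := by decide +kernel


end Cfsg.Agent.Helper9.TCData.HeB0
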