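import Cfsg.Agent.Lib.Helper9.TCData.HeB0.Main

set_option autoImplicit false
set_option maxRecDepth 1000000

namespace Cfsg.Agent.Helper9.TCData.HeB0
open Cfsg.Agent.Helper9.TC2

theorem tr5x_1 : allRange 1000 1000 (fun u => chkTree tab (lidx 5) (lpar 5) (lgi 5) 9 [143] u) = true := by decide +kernel

theorem tr5x_2 : allRange 2000 58 (fun u => chkTree tab (lidx 5) (lpar 5) (lgi 5) 9 [143] u) = true := by decide +kernel

theorem tr6x_0 : allRange 0 1000 (fun u => chkTree tab (lidx 6) (lpar 6) (lgi 6) 18 [0] u) = true := by decide +kernel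

theorem tr6x_1 : allRange 1000 1000 (fun u => chkTree tab (lidx 6) (lpar 6) (lgi 6) 18 [0] u) = true := by decide +kernel

theorem tr6x_2 : allRange 2000 58 (fun u => chkTree tab (lidx 6) (lpar 6) (lgi 6) 18 [0] u) = true := by decide +kernel


end Cfsg.Agent.Helper9.TCData.HeB0
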