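import Cfsg.Agent.Lib.Helper9.TCData.HeB0.Main

set_option autoImplicit false
set_option maxRecDepth 1000000

namespace Cfsg.Agent.Helper9.TCData.HeB0
open Cfsg.Agent.Helper9.TC2

theorem x_0 : allRange 0 480 (fun u => Nat.beq ((runT tab xw)^[7] u) u) = true := by decide +kernel

theorem x_1 : allRange 480 480 (fun u => Nat.beq ((runT tab xw)^[7] u) u) = true := by decide +kernel

theorem x_2 : allRange 960 480 (fun u => Nat.beq ((runT tab xw)^[7] u) u) = true := by decide +kernel

theorem x_3 : allRange 1440 480 (fun u => Nat.beq ((runT tab xw)^[7] u) u) = true := by decide +kernel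

theorem x_4 : allRange 1920 138 (fun u => Nat.beq ((runT tab xw)^[7] u) u) = true := by decide +kernel


end Cfsg.Agent.Helper9.TCData.HeB0
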