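import Cfsg.Agent.Lib.Helper9.TCData.HeB0.Main

set_option autoImplicit false
set_option maxRecDepth 1000000

namespace Cfsg.Agent.Helper9.TCData.HeB0
open Cfsg.Agent.Helper9.TC2

theorem m1_0 : allRange 0 899 (fun u => chkM1 tab u) = true := by decide +kernel

theorem m1_1 : allRange 899 899 (fun u => chkM1 tab u) = true := by decide +kernel

theorem m1_2 : allRange 1798 260 (fun u => chkM1 tab u) = true := by decide +kernel

theorem ma_0 : allRange 0 1819 (fun u => chkAux tab aux u) = true := by decide +kernel

theorem ma_1 : allRange 1819 239 (fun u => chkAux tab aux u) = true := by decide +kernel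

theorem m2_0 : allRange 0 94 (fun u => chkFix tab mwordsA u) = true := by decide +kernel

theorem m2_1 : allRange 94 94 (fun u => chkFix tab mwordsA u) = true := by decide +kernel

theorem m2_2 : allRange 188 94 (fun u => chkFix tab mwordsA u) = true := by decide +kernel


end Cfsg.Agent.Helper9.TCData.HeB0
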