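import Cfsg.Agent.Lib.Helper9.TCData.HeB0.S0
import Cfsg.Agent.Lib.Helper9.TCData.HeB0.S1
import Cfsg.Agent.Lib.Helper9.TCData.HeB0.S2
import Cfsg.Agent.Lib.Helper9.TCData.HeB0.S3
import Cfsg.Agent.Lib.Helper9.TCData.HeB0.S4
import Cfsg.Agent.Lib.Helper9.TCData.HeB0.S5
import Cfsg.Agent.Lib.Helper9.TCData.HeB0.S6
import Cfsg.Agent.Lib.Helper9.TCData.HeB0.S7
import Cfsg.Agent.Lib.Helper9.TCData.HeB0.S8
import Cfsg.Agent.Lib.Helper9.TCData.HeB0.S9
import Cfsg.Agent.Lib.Helper9.TCData.HeB0.S10
import Cfsg.Agent.Lib.Helper9.TCData.HeB0.S11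
import Cfsg.Agent.Lib.Helper9.TCData.HeB0.S12
import Cfsg.Agent.Lib.Helper9.TCData.HeB0.S13
import Cfsg.Agent.Lib.Helper9.TCData.HeB0.S14
import Cfsg.Agent.Lib.Helper9.TCData.HeB0.S15
import Cfsg.Agent.Lib.Helper9.TCData.HeB0.S16
import Cfsg.Agent.Lib.Helper9.TCData.HeB0.S17
import Cfsg.Agent.Lib.Helper9.TCData.HeB0.S18
import Cfsg.Agent.Lib.Helper9.TCData.HeB0.S19
import Cfsg.Agent.Lib.Helper9.TCData.HeB0.S20
import Cfsg.Agent.Lib.Helper9.TCData.HeB0.S21
import Cfsg.Agent.Lib.Helper9.TCData.HeB0.S22
import Cfsg.Agent.Lib.Helper9.TCData.HeB0.S23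
import Cfsg.Agent.Lib.Helper9.TCData.HeB0.S24
import Cfsg.Agent.Lib.Helper9.TCData.HeB0.S25
import Cfsg.Agent.Lib.Helper9.TCData.HeB0.S26
import Cfsg.Agent.Lib.Helper9.TCData.HeB0.S27
import Cfsg.Agent.Lib.Helper9.TCData.HeB0.S28
import Cfsg.Agent.Lib.Helper9.TCData.HeB0.S29
import Cfsg.Agent.Lib.Helper9.TCData.HeB0.S30
import Cfsg.Agent.Lib.Helper9.TCData.HeB0.S31

set_option autoImplicit false
set_option maxRecDepth 1000000

namespace Cfsg.Agent.Helper9.TCData.HeB0
open Cfsg.Agent.Helper9.TC2


theorem hE0 : ∀ u < 9972, chkE tab 0 u = true := by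
  have h0 : ∀ u < 0, (fun u => chkE tab 0 u) u = true := range_zero
  have h1 : ∀ u < 1762, (fun u => chkE tab 0 u) u = true := ext_range (a := 0) (len := 1762) h0 e0_0
  have h2 : ∀ u < 3634, (fun u => chkE tab 0 u) u = true := ext_range (a := 1762) (len := 1872) h1 e0_1
  have h3 : ∀ u < 5769, (fun u => chkE tab 0 u) u = true := ext_range (a := 3634) (len := 2135) h2 e0_2
  have h4 : ∀ u < 9881, (fun u => chkE tab 0 u) u = true := ext_range (a := 5769) (len := 4112) h3 e0_3
  have h5 : ∀ u < 9972, (fun u => chkE tab 0 u) u = true := ext_range (a := 9881) (len := 91) h4 e0_4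
  exact h5

theorem hE1 : ∀ u < 9972, chkE tab 1 u = true := by
  have h0 : ∀ u < 0, (fun u => chkE tab 1 u) u = true := range_zero
  have h1 : ∀ u < 2250, (fun u => chkE tab 1 u) u = true := ext_range (a := 0) (len := 2250) h0 e1_0
  have h2 : ∀ u < 4680, (fun u => chkE tab 1 u) u = true := ext_range (a := 2250) (len := 2430) h1 e1_1
  have h3 : ∀ u < 9587, (fun u => chkE tab 1 u) u = true := ext_range (a := 4680) (len := 4907) h2 e1_2
  have h4 : ∀ u < 9972, (fun u => chkE tab 1 u) u = true := ext_range (a := 9587) (len := 385) h3 e1_3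
  exact h4

theorem hE2 : ∀ u < 9972, chkE tab 2 u = true := by
  have h0 : ∀ u < 0, (fun u => chkE tab 2 u) u = true := range_zero
  have h1 : ∀ u < 2485, (fun u => chkE tab 2 u) u = true := ext_range (a := 0) (len := 2485) h0 e2_0
  have h2 : ∀ u < 4997, (fun u => chkE tab 2 u) u = true := ext_range (a := 2485) (len := 2512) h1 e2_1
  have h3 : ∀ u < 9972, (fun u => chkE tab 2 u) u = true := ext_range (a := 4997) (len := 4975) h2 e2_2
  exact h3

theorem hE3 : ∀ u < 9972, chkE tab 3 u = true := by
  have h0 : ∀ u < 0, (fun u => chkE tab 3 u) u = true := range_zero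
  have h1 : ∀ u < 3579, (fun u => chkE tab 3 u) u = true := ext_range (a := 0) (len := 3579) h0 e3_0
  have h2 : ∀ u < 8747, (fun u => chkE tab 3 u) u = true := ext_range (a := 3579) (len := 5168) h1 e3_1
  have h3 : ∀ u < 9972, (fun u => chkE tab 3 u) u = true := ext_range (a := 8747) (len := 1225) h2 e3_2
  exact h3

theorem hE4 : ∀ u < 9972, chkE tab 4 u = true := by
  have h0 : ∀ u < 0, (fun u => chkE tab 4 u) u = true := range_zero
  have h1 : ∀ u < 2948, (fun u => chkE tab 4 u) u = true := ext_range (a := 0) (len := 2948) h0 e4_0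
  have h2 : ∀ u < 6207, (fun u => chkE tab 4 u) u = true := ext_range (a := 2948) (len := 3259) h1 e4_1
  have h3 : ∀ u < 9972, (fun u => chkE tab 4 u) u = true := ext_range (a := 6207) (len := 3765) h2 e4_2
  exact h3

theorem hE5 : ∀ u < 9972, chkE tab 5 u = true := by
  have h0 : ∀ u < 0, (fun u => chkE tab 5 u) u = true := range_zero
  have h1 : ∀ u < 3296, (fun u => chkE tab 5 u) u = true := ext_range (a := 0) (len := 3296) h0 e5_0
  have h2 : ∀ u < 7179, (fun u => chkE tab 5 u) u = true := ext_range (a := 3296) (len := 3883) h1 e5_1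
  have h3 : ∀ u < 9972, (fun u => chkE tab 5 u) u = true := ext_range (a := 7179) (len := 2793) h2 e5_2
  exact h3

theorem hE6 : ∀ u < 9972, chkE tab 6 u = true := by
  have h0 : ∀ u < 0, (fun u => chkE tab 6 u) u = true := range_zero
  have h1 : ∀ u < 3181, (fun u => chkE tab 6 u) u = true := ext_range (a := 0) (len := 3181) h0 e6_0
  have h2 : ∀ u < 6621, (fun u => chkE tab 6 u) u = true := ext_range (a := 3181) (len := 3440) h1 e6_1
  have h3 : ∀ u < 9972, (fun u => chkE tab 6 u) u = true := ext_range (a := 6621) (len := 3351) h2 e6_2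
  exact h3

theorem hL : ∀ u < 9972, chkL tab u = true := by
  have h0 : ∀ u < 0, (fun u => chkL tab u) u = true := range_zero
  have h1 : ∀ u < 2122, (fun u => chkL tab u) u = true := ext_range (a := 0) (len := 2122) h0 l_0
  have h2 : ∀ u < 4033, (fun u => chkL tab u) u = true := ext_range (a := 2122) (len := 1911) h1 l_1
  have h3 : ∀ u < 6037, (fun u => chkL tab u) u = true := ext_range (a := 4033) (len := 2004) h2 l_2
  have h4 : ∀ u < 7636, (fun u => chkL tab u) u = true := ext_range (a := 6037) (len := 1599) h3 l_3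
  have h5 : ∀ u < 9517, (fun u => chkL tab u) u = true := ext_range (a := 7636) (len := 1881) h4 l_4
  have h6 : ∀ u < 9972, (fun u => chkL tab u) u = true := ext_range (a := 9517) (len := 455) h5 l_5
  exact h6

theorem hF : ∀ u < 2058, chkFin tab u = true := by
  have h0 : ∀ u < 0, (fun u => chkFin tab u) u = true := range_zero
  have h1 : ∀ u < 348, (fun u => chkFin tab u) u = true := ext_range (a := 0) (len := 348) h0 f_0
  have h2 : ∀ u < 696, (fun u => chkFin tab u) u = true := ext_range (a := 348) (len := 348) h1 f_1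
  have h3 : ∀ u < 1044, (fun u => chkFin tab u) u = true := ext_range (a := 696) (len := 348) h2 f_2
  have h4 : ∀ u < 1392, (fun u => chkFin tab u) u = true := ext_range (a := 1044) (len := 348) h3 f_3
  have h5 : ∀ u < 1740, (fun u => chkFin tab u) u = true := ext_range (a := 1392) (len := 348) h4 f_4
  have h6 : ∀ u < 2058, (fun u => chkFin tab u) u = true := ext_range (a := 1740) (len := 318) h5 f_5
  exact h6

theorem hC : ∀ u < 9972, chkCls tab u = true := by
  have h0 : ∀ u < 0, (fun u => chkCls tab u) u = true := range_zero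
  have h1 : ∀ u < 2667, (fun u => chkCls tab u) u = true := ext_range (a := 0) (len := 2667) h0 c_0
  have h2 : ∀ u < 5334, (fun u => chkCls tab u) u = true := ext_range (a := 2667) (len := 2667) h1 c_1
  have h3 : ∀ u < 8001, (fun u => chkCls tab u) u = true := ext_range (a := 5334) (len := 2667) h2 c_2
  have h4 : ∀ u < 9972, (fun u => chkCls tab u) u = true := ext_range (a := 8001) (len := 1971) h3 c_3
  exact h4

theorem hM1 : ∀ u < 2058, chkM1 tab u = true := by
  have h0 : ∀ u < 0, (fun u => chkM1 tab u) u = true := range_zero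
  have h1 : ∀ u < 899, (fun u => chkM1 tab u) u = true := ext_range (a := 0) (len := 899) h0 m1_0
  have h2 : ∀ u < 1798, (fun u => chkM1 tab u) u = true := ext_range (a := 899) (len := 899) h1 m1_1
  have h3 : ∀ u < 2058, (fun u => chkM1 tab u) u = true := ext_range (a := 1798) (len := 260) h2 m1_2
  exact h3

theorem hMA : ∀ u < 2058, chkAux tab aux u = true := by
  have h0 : ∀ u < 0, (fun u => chkAux tab aux u) u = true := range_zero
  have h1 : ∀ u < 1819, (fun u => chkAux tab aux u) u = true := ext_range (a := 0) (len := 1819) h0 ma_0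
  have h2 : ∀ u < 2058, (fun u => chkAux tab aux u) u = true := ext_range (a := 1819) (len := 239) h1 ma_1
  exact h2

theorem hM2A : ∀ u < 2058, chkFix tab mwordsA u = true := by
  have h0 : ∀ u < 0, (fun u => chkFix tab mwordsA u) u = true := range_zero
  have h1 : ∀ u < 94, (fun u => chkFix tab mwordsA u) u = true := ext_range (a := 0) (len := 94) h0 m2_0
  have h2 : ∀ u < 188, (fun u => chkFix tab mwordsA u) u = true := ext_range (a := 94) (len := 94) h1 m2_1
  have h3 : ∀ u < 282, (fun u => chkFix tab mwordsA u) u = true := ext_range (a := 188) (len := 94) h2 m2_2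
  have h4 : ∀ u < 376, (fun u => chkFix tab mwordsA u) u = true := ext_range (a := 282) (len := 94) h3 m2_3
  have h5 : ∀ u < 470, (fun u => chkFix tab mwordsA u) u = true := ext_range (a := 376) (len := 94) h4 m2_4
  have h6 : ∀ u < 564, (fun u => chkFix tab mwordsA u) u = true := ext_range (a := 470) (len := 94) h5 m2_5
  have h7 : ∀ u < 658, (fun u => chkFix tab mwordsA u) u = true := ext_range (a := 564) (len := 94) h6 m2_6
  have h8 : ∀ u < 752, (fun u => chkFix tab mwordsA u) u = true := ext_range (a := 658) (len := 94) h7 m2_7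
  have h9 : ∀ u < 846, (fun u => chkFix tab mwordsA u) u = true := ext_range (a := 752) (len := 94) h8 m2_8
  have h10 : ∀ u < 940, (fun u => chkFix tab mwordsA u) u = true := ext_range (a := 846) (len := 94) h9 m2_9
  have h11 : ∀ u < 1034, (fun u => chkFix tab mwordsA u) u = true := ext_range (a := 940) (len := 94) h10 m2_10
  have h12 : ∀ u < 1128, (fun u => chkFix tab mwordsA u) u = true := ext_range (a := 1034) (len := 94) h11 m2_11
  have h13 : ∀ u < 1222, (fun u => chkFix tab mwordsA u) u = true := ext_range (a := 1128) (len := 94) h12 m2_12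
  have h14 : ∀ u < 1316, (fun u => chkFix tab mwordsA u) u = true := ext_range (a := 1222) (len := 94) h13 m2_13
  have h15 : ∀ u < 1410, (fun u => chkFix tab mwordsA u) u = true := ext_range (a := 1316) (len := 94) h14 m2_14
  have h16 : ∀ u < 1504, (fun u => chkFix tab mwordsA u) u = true := ext_range (a := 1410) (len := 94) h15 m2_15
  have h17 : ∀ u < 1598, (fun u => chkFix tab mwordsA u) u = true := ext_range (a := 1504) (len := 94) h16 m2_16
  have h18 : ∀ u < 1692, (fun u => chkFix tab mwordsA u) u = true := ext_range (a := 1598) (len := 94) h17 m2_17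
  have h19 : ∀ u < 1786, (fun u => chkFix tab mwordsA u) u = true := ext_range (a := 1692) (len := 94) h18 m2_18
  have h20 : ∀ u < 1880, (fun u => chkFix tab mwordsA u) u = true := ext_range (a := 1786) (len := 94) h19 m2_19
  have h21 : ∀ u < 1974, (fun u => chkFix tab mwordsA u) u = true := ext_range (a := 1880) (len := 94) h20 m2_20
  have h22 : ∀ u < 2058, (fun u => chkFix tab mwordsA u) u = true := ext_range (a := 1974) (len := 84) h21 m2_21
  exact h22

theorem hO1 : ∀ u < 2058, chkO1 tab orb u = true := by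
  have h0 : ∀ u < 0, (fun u => chkO1 tab orb u) u = true := range_zero
  have h1 : ∀ u < 221, (fun u => chkO1 tab orb u) u = true := ext_range (a := 0) (len := 221) h0 o1_0
  have h2 : ∀ u < 442, (fun u => chkO1 tab orb u) u = true := ext_range (a := 221) (len := 221) h1 o1_1
  have h3 : ∀ u < 663, (fun u => chkO1 tab orb u) u = true := ext_range (a := 442) (len := 221) h2 o1_2
  have h4 : ∀ u < 884, (fun u => chkO1 tab orb u) u = true := ext_range (a := 663) (len := 221) h3 o1_3
  have h5 : ∀ u < 1105, (fun u => chkO1 tab orb u) u = true := ext_range (a := 884) (len := 221) h4 o1_4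
  have h6 : ∀ u < 1326, (fun u => chkO1 tab orb u) u = true := ext_range (a := 1105) (len := 221) h5 o1_5
  have h7 : ∀ u < 1547, (fun u => chkO1 tab orb u) u = true := ext_range (a := 1326) (len := 221) h6 o1_6
  have h8 : ∀ u < 1768, (fun u => chkO1 tab orb u) u = true := ext_range (a := 1547) (len := 221) h7 o1_7
  have h9 : ∀ u < 1989, (fun u => chkO1 tab orb u) u = true := ext_range (a := 1768) (len := 221) h8 o1_8
  have h10 : ∀ u < 2058, (fun u => chkO1 tab orb u) u = true := ext_range (a := 1989) (len := 69) h9 o1_9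
  exact h10

theorem hO2 : ∀ u < 2058, chkO2 tab orb u = true := by
  have h0 : ∀ u < 0, (fun u => chkO2 tab orb u) u = true := range_zero
  have h1 : ∀ u < 1334, (fun u => chkO2 tab orb u) u = true := ext_range (a := 0) (len := 1334) h0 o2_0
  have h2 : ∀ u < 2058, (fun u => chkO2 tab orb u) u = true := ext_range (a := 1334) (len := 724) h1 o2_1
  exact h2

theorem hOL : ∀ u < 2058, Nat.blt (orb.lab u) 5 = true := by
  have h0 : ∀ u < 0, (fun u => Nat.blt (orb.lab u) 5) u = true := range_zero
  have h1 : ∀ u < 2058, (fun u => Nat.blt (orb.lab u) 5) u = true := ext_range (a := 0) (len := 2058) h0 ol_0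
  exact h1

theorem hSlp : ∀ u < 2058, chkSlp tab slp u = true := by
  have h0 : ∀ u < 0, (fun u => chkSlp tab slp u) u = true := range_zero
  have h1 : ∀ u < 18, (fun u => chkSlp tab slp u) u = true := ext_range (a := 0) (len := 18) h0 sl_0
  have h2 : ∀ u < 36, (fun u => chkSlp tab slp u) u = true := ext_range (a := 18) (len := 18) h1 sl_1
  have h3 : ∀ u < 54, (fun u => chkSlp tab slp u) u = true := ext_range (a := 36) (len := 18) h2 sl_2
  have h4 : ∀ u < 72, (fun u => chkSlp tab slp u) u = true := ext_range (a := 54) (len := 18) h3 sl_3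
  have h5 : ∀ u < 90, (fun u => chkSlp tab slp u) u = true := ext_range (a := 72) (len := 18) h4 sl_4
  have h6 : ∀ u < 108, (fun u => chkSlp tab slp u) u = true := ext_range (a := 90) (len := 18) h5 sl_5
  have h7 : ∀ u < 126, (fun u => chkSlp tab slp u) u = true := ext_range (a := 108) (len := 18) h6 sl_6
  have h8 : ∀ u < 144, (fun u => chkSlp tab slp u) u = true := ext_range (a := 126) (len := 18) h7 sl_7
  have h9 : ∀ u < 162, (fun u => chkSlp tab slp u) u = true := ext_range (a := 144) (len := 18) h8 sl_8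
  have h10 : ∀ u < 180, (fun u => chkSlp tab slp u) u = true := ext_range (a := 162) (len := 18) h9 sl_9
  have h11 : ∀ u < 198, (fun u => chkSlp tab slp u) u = true := ext_range (a := 180) (len := 18) h10 sl_10
  have h12 : ∀ u < 216, (fun u => chkSlp tab slp u) u = true := ext_range (a := 198) (len := 18) h11 sl_11
  have h13 : ∀ u < 234, (fun u => chkSlp tab slp u) u = true := ext_range (a := 216) (len := 18) h12 sl_12
  have h14 : ∀ u < 252, (fun u => chkSlp tab slp u) u = true := ext_range (a := 234) (len := 18) h13 sl_13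
  have h15 : ∀ u < 270, (fun u => chkSlp tab slp u) u = true := ext_range (a := 252) (len := 18) h14 sl_14
  have h16 : ∀ u < 288, (fun u => chkSlp tab slp u) u = true := ext_range (a := 270) (len := 18) h15 sl_15
  have h17 : ∀ u < 306, (fun u => chkSlp tab slp u) u = true := ext_range (a := 288) (len := 18) h16 sl_16
  have h18 : ∀ u < 324, (fun u => chkSlp tab slp u) u = true := ext_range (a := 306) (len := 18) h17 sl_17
  have h19 : ∀ u < 342, (fun u => chkSlp tab slp u) u = true := ext_range (a := 324) (len := 18) h18 sl_18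
  have h20 : ∀ u < 360, (fun u => chkSlp tab slp u) u = true := ext_range (a := 342) (len := 18) h19 sl_19
  have h21 : ∀ u < 378, (fun u => chkSlp tab slp u) u = true := ext_range (a := 360) (len := 18) h20 sl_20
  have h22 : ∀ u < 396, (fun u => chkSlp tab slp u) u = true := ext_range (a := 378) (len := 18) h21 sl_21
  have h23 : ∀ u < 414, (fun u => chkSlp tab slp u) u = true := ext_range (a := 396) (len := 18) h22 sl_22
  have h24 : ∀ u < 432, (fun u => chkSlp tab slp u) u = true := ext_range (a := 414) (len := 18) h23 sl_23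
  have h25 : ∀ u < 450, (fun u => chkSlp tab slp u) u = true := ext_range (a := 432) (len := 18) h24 sl_24
  have h26 : ∀ u < 468, (fun u => chkSlp tab slp u) u = true := ext_range (a := 450) (len := 18) h25 sl_25
  have h27 : ∀ u < 486, (fun u => chkSlp tab slp u) u = true := ext_range (a := 468) (len := 18) h26 sl_26
  have h28 : ∀ u < 504, (fun u => chkSlp tab slp u) u = true := ext_range (a := 486) (len := 18) h27 sl_27
  have h29 : ∀ u < 522, (fun u => chkSlp tab slp u) u = true := ext_range (a := 504) (len := 18) h28 sl_28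
  have h30 : ∀ u < 540, (fun u => chkSlp tab slp u) u = true := ext_range (a := 522) (len := 18) h29 sl_29
  have h31 : ∀ u < 558, (fun u => chkSlp tab slp u) u = true := ext_range (a := 540) (len := 18) h30 sl_30
  have h32 : ∀ u < 576, (fun u => chkSlp tab slp u) u = true := ext_range (a := 558) (len := 18) h31 sl_31
  have h33 : ∀ u < 594, (fun u => chkSlp tab slp u) u = true := ext_range (a := 576) (len := 18) h32 sl_32
  have h34 : ∀ u < 612, (fun u => chkSlp tab slp u) u = true := ext_range (a := 594) (len := 18) h33 sl_33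
  have h35 : ∀ u < 630, (fun u => chkSlp tab slp u) u = true := ext_range (a := 612) (len := 18) h34 sl_34
  have h36 : ∀ u < 648, (fun u => chkSlp tab slp u) u = true := ext_range (a := 630) (len := 18) h35 sl_35
  have h37 : ∀ u < 666, (fun u => chkSlp tab slp u) u = true := ext_range (a := 648) (len := 18) h36 sl_36
  have h38 : ∀ u < 684, (fun u => chkSlp tab slp u) u = true := ext_range (a := 666) (len := 18) h37 sl_37
  have h39 : ∀ u < 702, (fun u => chkSlp tab slp u) u = true := ext_range (a := 684) (len := 18) h38 sl_38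
  have h40 : ∀ u < 720, (fun u => chkSlp tab slp u) u = true := ext_range (a := 702) (len := 18) h39 sl_39
  have h41 : ∀ u < 738, (fun u => chkSlp tab slp u) u = true := ext_range (a := 720) (len := 18) h40 sl_40
  have h42 : ∀ u < 756, (fun u => chkSlp tab slp u) u = true := ext_range (a := 738) (len := 18) h41 sl_41
  have h43 : ∀ u < 774, (fun u => chkSlp tab slp u) u = true := ext_range (a := 756) (len := 18) h42 sl_42
  have h44 : ∀ u < 792, (fun u => chkSlp tab slp u) u = true := ext_range (a := 774) (len := 18) h43 sl_43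
  have h45 : ∀ u < 810, (fun u => chkSlp tab slp u) u = true := ext_range (a := 792) (len := 18) h44 sl_44
  have h46 : ∀ u < 828, (fun u => chkSlp tab slp u) u = true := ext_range (a := 810) (len := 18) h45 sl_45
  have h47 : ∀ u < 846, (fun u => chkSlp tab slp u) u = true := ext_range (a := 828) (len := 18) h46 sl_46
  have h48 : ∀ u < 864, (fun u => chkSlp tab slp u) u = true := ext_range (a := 846) (len := 18) h47 sl_47
  have h49 : ∀ u < 882, (fun u => chkSlp tab slp u) u = true := ext_range (a := 864) (len := 18) h48 sl_48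
  have h50 : ∀ u < 900, (fun u => chkSlp tab slp u) u = true := ext_range (a := 882) (len := 18) h49 sl_49
  have h51 : ∀ u < 918, (fun u => chkSlp tab slp u) u = true := ext_range (a := 900) (len := 18) h50 sl_50
  have h52 : ∀ u < 936, (fun u => chkSlp tab slp u) u = true := ext_range (a := 918) (len := 18) h51 sl_51
  have h53 : ∀ u < 954, (fun u => chkSlp tab slp u) u = true := ext_range (a := 936) (len := 18) h52 sl_52
  have h54 : ∀ u < 972, (fun u => chkSlp tab slp u) u = true := ext_range (a := 954) (len := 18) h53 sl_53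
  have h55 : ∀ u < 990, (fun u => chkSlp tab slp u) u = true := ext_range (a := 972) (len := 18) h54 sl_54
  have h56 : ∀ u < 1008, (fun u => chkSlp tab slp u) u = true := ext_range (a := 990) (len := 18) h55 sl_55
  have h57 : ∀ u < 1026, (fun u => chkSlp tab slp u) u = true := ext_range (a := 1008) (len := 18) h56 sl_56
  have h58 : ∀ u < 1044, (fun u => chkSlp tab slp u) u = true := ext_range (a := 1026) (len := 18) h57 sl_57
  have h59 : ∀ u < 1062, (fun u => chkSlp tab slp u) u = true := ext_range (a := 1044) (len := 18) h58 sl_58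
  have h60 : ∀ u < 1080, (fun u => chkSlp tab slp u) u = true := ext_range (a := 1062) (len := 18) h59 sl_59
  have h61 : ∀ u < 1098, (fun u => chkSlp tab slp u) u = true := ext_range (a := 1080) (len := 18) h60 sl_60
  have h62 : ∀ u < 1116, (fun u => chkSlp tab slp u) u = true := ext_range (a := 1098) (len := 18) h61 sl_61
  have h63 : ∀ u < 1134, (fun u => chkSlp tab slp u) u = true := ext_range (a := 1116) (len := 18) h62 sl_62
  have h64 : ∀ u < 1152, (fun u => chkSlp tab slp u) u = true := ext_range (a := 1134) (len := 18) h63 sl_63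
  have h65 : ∀ u < 1170, (fun u => chkSlp tab slp u) u = true := ext_range (a := 1152) (len := 18) h64 sl_64
  have h66 : ∀ u < 1188, (fun u => chkSlp tab slp u) u = true := ext_range (a := 1170) (len := 18) h65 sl_65
  have h67 : ∀ u < 1206, (fun u => chkSlp tab slp u) u = true := ext_range (a := 1188) (len := 18) h66 sl_66
  have h68 : ∀ u < 1224, (fun u => chkSlp tab slp u) u = true := ext_range (a := 1206) (len := 18) h67 sl_67
  have h69 : ∀ u < 1242, (fun u => chkSlp tab slp u) u = true := ext_range (a := 1224) (len := 18) h68 sl_68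
  have h70 : ∀ u < 1260, (fun u => chkSlp tab slp u) u = true := ext_range (a := 1242) (len := 18) h69 sl_69
  have h71 : ∀ u < 1278, (fun u => chkSlp tab slp u) u = true := ext_range (a := 1260) (len := 18) h70 sl_70
  have h72 : ∀ u < 1296, (fun u => chkSlp tab slp u) u = true := ext_range (a := 1278) (len := 18) h71 sl_71
  have h73 : ∀ u < 1314, (fun u => chkSlp tab slp u) u = true := ext_range (a := 1296) (len := 18) h72 sl_72
  have h74 : ∀ u < 1332, (fun u => chkSlp tab slp u) u = true := ext_range (a := 1314) (len := 18) h73 sl_73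
  have h75 : ∀ u < 1350, (fun u => chkSlp tab slp u) u = true := ext_range (a := 1332) (len := 18) h74 sl_74
  have h76 : ∀ u < 1368, (fun u => chkSlp tab slp u) u = true := ext_range (a := 1350) (len := 18) h75 sl_75
  have h77 : ∀ u < 1386, (fun u => chkSlp tab slp u) u = true := ext_range (a := 1368) (len := 18) h76 sl_76
  have h78 : ∀ u < 1404, (fun u => chkSlp tab slp u) u = true := ext_range (a := 1386) (len := 18) h77 sl_77
  have h79 : ∀ u < 1422, (fun u => chkSlp tab slp u) u = true := ext_range (a := 1404) (len := 18) h78 sl_78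
  have h80 : ∀ u < 1440, (fun u => chkSlp tab slp u) u = true := ext_range (a := 1422) (len := 18) h79 sl_79
  have h81 : ∀ u < 1458, (fun u => chkSlp tab slp u) u = true := ext_range (a := 1440) (len := 18) h80 sl_80
  have h82 : ∀ u < 1476, (fun u => chkSlp tab slp u) u = true := ext_range (a := 1458) (len := 18) h81 sl_81
  have h83 : ∀ u < 1494, (fun u => chkSlp tab slp u) u = true := ext_range (a := 1476) (len := 18) h82 sl_82
  have h84 : ∀ u < 1512, (fun u => chkSlp tab slp u) u = true := ext_range (a := 1494) (len := 18) h83 sl_83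
  have h85 : ∀ u < 1530, (fun u => chkSlp tab slp u) u = true := ext_range (a := 1512) (len := 18) h84 sl_84
  have h86 : ∀ u < 1548, (fun u => chkSlp tab slp u) u = true := ext_range (a := 1530) (len := 18) h85 sl_85
  have h87 : ∀ u < 1566, (fun u => chkSlp tab slp u) u = true := ext_range (a := 1548) (len := 18) h86 sl_86
  have h88 : ∀ u < 1584, (fun u => chkSlp tab slp u) u = true := ext_range (a := 1566) (len := 18) h87 sl_87
  have h89 : ∀ u < 1602, (fun u => chkSlp tab slp u) u = true := ext_range (a := 1584) (len := 18) h88 sl_88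
  have h90 : ∀ u < 1620, (fun u => chkSlp tab slp u) u = true := ext_range (a := 1602) (len := 18) h89 sl_89
  have h91 : ∀ u < 1638, (fun u => chkSlp tab slp u) u = true := ext_range (a := 1620) (len := 18) h90 sl_90
  have h92 : ∀ u < 1656, (fun u => chkSlp tab slp u) u = true := ext_range (a := 1638) (len := 18) h91 sl_91
  have h93 : ∀ u < 1674, (fun u => chkSlp tab slp u) u = true := ext_range (a := 1656) (len := 18) h92 sl_92
  have h94 : ∀ u < 1692, (fun u => chkSlp tab slp u) u = true := ext_range (a := 1674) (len := 18) h93 sl_93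
  have h95 : ∀ u < 1710, (fun u => chkSlp tab slp u) u = true := ext_range (a := 1692) (len := 18) h94 sl_94
  have h96 : ∀ u < 1728, (fun u => chkSlp tab slp u) u = true := ext_range (a := 1710) (len := 18) h95 sl_95
  have h97 : ∀ u < 1746, (fun u => chkSlp tab slp u) u = true := ext_range (a := 1728) (len := 18) h96 sl_96
  have h98 : ∀ u < 1764, (fun u => chkSlp tab slp u) u = true := ext_range (a := 1746) (len := 18) h97 sl_97
  have h99 : ∀ u < 1782, (fun u => chkSlp tab slp u) u = true := ext_range (a := 1764) (len := 18) h98 sl_98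
  have h100 : ∀ u < 1800, (fun u => chkSlp tab slp u) u = true := ext_range (a := 1782) (len := 18) h99 sl_99
  have h101 : ∀ u < 1818, (fun u => chkSlp tab slp u) u = true := ext_range (a := 1800) (len := 18) h100 sl_100
  have h102 : ∀ u < 1836, (fun u => chkSlp tab slp u) u = true := ext_range (a := 1818) (len := 18) h101 sl_101
  have h103 : ∀ u < 1854, (fun u => chkSlp tab slp u) u = true := ext_range (a := 1836) (len := 18) h102 sl_102
  have h104 : ∀ u < 1872, (fun u => chkSlp tab slp u) u = true := ext_range (a := 1854) (len := 18) h103 sl_103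
  have h105 : ∀ u < 1890, (fun u => chkSlp tab slp u) u = true := ext_range (a := 1872) (len := 18) h104 sl_104
  have h106 : ∀ u < 1908, (fun u => chkSlp tab slp u) u = true := ext_range (a := 1890) (len := 18) h105 sl_105
  have h107 : ∀ u < 1926, (fun u => chkSlp tab slp u) u = true := ext_range (a := 1908) (len := 18) h106 sl_106
  have h108 : ∀ u < 1944, (fun u => chkSlp tab slp u) u = true := ext_range (a := 1926) (len := 18) h107 sl_107
  have h109 : ∀ u < 1962, (fun u => chkSlp tab slp u) u = true := ext_range (a := 1944) (len := 18) h108 sl_108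
  have h110 : ∀ u < 1980, (fun u => chkSlp tab slp u) u = true := ext_range (a := 1962) (len := 18) h109 sl_109
  have h111 : ∀ u < 1998, (fun u => chkSlp tab slp u) u = true := ext_range (a := 1980) (len := 18) h110 sl_110
  have h112 : ∀ u < 2016, (fun u => chkSlp tab slp u) u = true := ext_range (a := 1998) (len := 18) h111 sl_111
  have h113 : ∀ u < 2034, (fun u => chkSlp tab slp u) u = true := ext_range (a := 2016) (len := 18) h112 sl_112
  have h114 : ∀ u < 2052, (fun u => chkSlp tab slp u) u = true := ext_range (a := 2034) (len := 18) h113 sl_113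
  have h115 : ∀ u < 2058, (fun u => chkSlp tab slp u) u = true := ext_range (a := 2052) (len := 6) h114 sl_114
  exact h115

theorem hT0 : ∀ u < 2058, chkTree tab (lidx 0) (lpar 0) (lgi 0) 0 [0, 1, 2, 3, 4, 5, 6, 143, 138, 144] u = true := by
  have h0 : ∀ u < 0, (fun u => chkTree tab (lidx 0) (lpar 0) (lgi 0) 0 [0, 1, 2, 3, 4, 5, 6, 143, 138, 144] u) u = true := range_zero
  have h1 : ∀ u < 1000, (fun u => chkTree tab (lidx 0) (lpar 0) (lgi 0) 0 [0, 1, 2, 3, 4, 5, 6, 143, 138, 144] u) u = true := ext_range (a := 0) (len := 1000) h0 tr0x_0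
  have h2 : ∀ u < 2000, (fun u => chkTree tab (lidx 0) (lpar 0) (lgi 0) 0 [0, 1, 2, 3, 4, 5, 6, 143, 138, 144] u) u = true := ext_range (a := 1000) (len := 1000) h1 tr0x_1
  have h3 : ∀ u < 2058, (fun u => chkTree tab (lidx 0) (lpar 0) (lgi 0) 0 [0, 1, 2, 3, 4, 5, 6, 143, 138, 144] u) u = true := ext_range (a := 2000) (len := 58) h2 tr0x_2
  exact h3

theorem hT1 : ∀ u < 2058, chkTree tab (lidx 1) (lpar 1) (lgi 1) 1 [2, 3, 4, 5, 143, 138, 144] u = true := by
  have h0 : ∀ u < 0, (fun u => chkTree tab (lidx 1) (lpar 1) (lgi 1) 1 [2, 3, 4, 5, 143, 138, 144] u) u = true := range_zero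
  have h1 : ∀ u < 1000, (fun u => chkTree tab (lidx 1) (lpar 1) (lgi 1) 1 [2, 3, 4, 5, 143, 138, 144] u) u = true := ext_range (a := 0) (len := 1000) h0 tr1x_0
  have h2 : ∀ u < 2000, (fun u => chkTree tab (lidx 1) (lpar 1) (lgi 1) 1 [2, 3, 4, 5, 143, 138, 144] u) u = true := ext_range (a := 1000) (len := 1000) h1 tr1x_1
  have h3 : ∀ u < 2058, (fun u => chkTree tab (lidx 1) (lpar 1) (lgi 1) 1 [2, 3, 4, 5, 143, 138, 144] u) u = true := ext_range (a := 2000) (len := 58) h2 tr1x_2
  exact h3

theorem hT2 : ∀ u < 2058, chkTree tab (lidx 2) (lpar 2) (lgi 2) 2 [3, 4, 5, 138, 144] u = true := by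
  have h0 : ∀ u < 0, (fun u => chkTree tab (lidx 2) (lpar 2) (lgi 2) 2 [3, 4, 5, 138, 144] u) u = true := range_zero
  have h1 : ∀ u < 1000, (fun u => chkTree tab (lidx 2) (lpar 2) (lgi 2) 2 [3, 4, 5, 138, 144] u) u = true := ext_range (a := 0) (len := 1000) h0 tr2x_0
  have h2 : ∀ u < 2000, (fun u => chkTree tab (lidx 2) (lpar 2) (lgi 2) 2 [3, 4, 5, 138, 144] u) u = true := ext_range (a := 1000) (len := 1000) h1 tr2x_1
  have h3 : ∀ u < 2058, (fun u => chkTree tab (lidx 2) (lpar 2) (lgi 2) 2 [3, 4, 5, 138, 144] u) u = true := ext_range (a := 2000) (len := 58) h2 tr2x_2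
  exact h3

theorem hT3 : ∀ u < 2058, chkTree tab (lidx 3) (lpar 3) (lgi 3) 3 [138] u = true := by
  have h0 : ∀ u < 0, (fun u => chkTree tab (lidx 3) (lpar 3) (lgi 3) 3 [138] u) u = true := range_zero
  have h1 : ∀ u < 1000, (fun u => chkTree tab (lidx 3) (lpar 3) (lgi 3) 3 [138] u) u = true := ext_range (a := 0) (len := 1000) h0 tr3x_0
  have h2 : ∀ u < 2000, (fun u => chkTree tab (lidx 3) (lpar 3) (lgi 3) 3 [138] u) u = true := ext_range (a := 1000) (len := 1000) h1 tr3x_1
  have h3 : ∀ u < 2058, (fun u => chkTree tab (lidx 3) (lpar 3) (lgi 3) 3 [138] u) u = true := ext_range (a := 2000) (len := 58) h2 tr3x_2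
  exact h3

theorem hT4 : ∀ u < 2058, chkTree tab (lidx 4) (lpar 4) (lgi 4) 5 [4, 5] u = true := by
  have h0 : ∀ u < 0, (fun u => chkTree tab (lidx 4) (lpar 4) (lgi 4) 5 [4, 5] u) u = true := range_zero
  have h1 : ∀ u < 1000, (fun u => chkTree tab (lidx 4) (lpar 4) (lgi 4) 5 [4, 5] u) u = true := ext_range (a := 0) (len := 1000) h0 tr4x_0
  have h2 : ∀ u < 2000, (fun u => chkTree tab (lidx 4) (lpar 4) (lgi 4) 5 [4, 5] u) u = true := ext_range (a := 1000) (len := 1000) h1 tr4x_1
  have h3 : ∀ u < 2058, (fun u => chkTree tab (lidx 4) (lpar 4) (lgi 4) 5 [4, 5] u) u = true := ext_range (a := 2000) (len := 58) h2 tr4x_2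
  exact h3

theorem hT5 : ∀ u < 2058, chkTree tab (lidx 5) (lpar 5) (lgi 5) 9 [143] u = true := by
  have h0 : ∀ u < 0, (fun u => chkTree tab (lidx 5) (lpar 5) (lgi 5) 9 [143] u) u = true := range_zero
  have h1 : ∀ u < 1000, (fun u => chkTree tab (lidx 5) (lpar 5) (lgi 5) 9 [143] u) u = true := ext_range (a := 0) (len := 1000) h0 tr5x_0
  have h2 : ∀ u < 2000, (fun u => chkTree tab (lidx 5) (lpar 5) (lgi 5) 9 [143] u) u = true := ext_range (a := 1000) (len := 1000) h1 tr5x_1
  have h3 : ∀ u < 2058, (fun u => chkTree tab (lidx 5) (lpar 5) (lgi 5) 9 [143] u) u = true := ext_range (a := 2000) (len := 58) h2 tr5x_2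
  exact h3

theorem hT6 : ∀ u < 2058, chkTree tab (lidx 6) (lpar 6) (lgi 6) 18 [0] u = true := by
  have h0 : ∀ u < 0, (fun u => chkTree tab (lidx 6) (lpar 6) (lgi 6) 18 [0] u) u = true := range_zero
  have h1 : ∀ u < 1000, (fun u => chkTree tab (lidx 6) (lpar 6) (lgi 6) 18 [0] u) u = true := ext_range (a := 0) (len := 1000) h0 tr6x_0
  have h2 : ∀ u < 2000, (fun u => chkTree tab (lidx 6) (lpar 6) (lgi 6) 18 [0] u) u = true := ext_range (a := 1000) (len := 1000) h1 tr6x_1
  have h3 : ∀ u < 2058, (fun u => chkTree tab (lidx 6) (lpar 6) (lgi 6) 18 [0] u) u = true := ext_range (a := 2000) (len := 58) h2 tr6x_2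
  exact h3

theorem hX : ∀ u < 2058, Nat.beq ((runT tab xw)^[7] u) u = true := by
  have h0 : ∀ u < 0, (fun u => Nat.beq ((runT tab xw)^[7] u) u) u = true := range_zero
  have h1 : ∀ u < 480, (fun u => Nat.beq ((runT tab xw)^[7] u) u) u = true := ext_range (a := 0) (len := 480) h0 x_0
  have h2 : ∀ u < 960, (fun u => Nat.beq ((runT tab xw)^[7] u) u) u = true := ext_range (a := 480) (len := 480) h1 x_1
  have h3 : ∀ u < 1440, (fun u => Nat.beq ((runT tab xw)^[7] u) u) u = true := ext_range (a := 960) (len := 480) h2 x_2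
  have h4 : ∀ u < 1920, (fun u => Nat.beq ((runT tab xw)^[7] u) u) u = true := ext_range (a := 1440) (len := 480) h3 x_3
  have h5 : ∀ u < 2058, (fun u => Nat.beq ((runT tab xw)^[7] u) u) u = true := ext_range (a := 1920) (len := 138) h4 x_4
  exact h5

theorem hE : ∀ c < 7, ∀ u < 9972, chkE tab c u = true := by
  intro c hc
  interval_cases c
  · exact hE0
  · exact hE1
  · exact hE2
  · exact hE3
  · exact hE4
  · exact hE5
  · exact hE6

end Cfsg.Agent.Helper9.TCData.HeB0
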