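import Cfsg.Agent.Lib.Helper9.TC2Cox
import Cfsg.Agent.Lib.Helper9.TC2Aux
import Cfsg.Agent.Lib.Helper9.TC2BSGS
import Cfsg.Agent.Lib.Helper9.TC2Pack
import Cfsg.Agent.Lib.Helper9.TCData.HeB0.P0

set_option autoImplicit false
set_option maxRecDepth 100000

namespace Cfsg.Agent.Helper9.TCData.HeB0
open Cfsg.Agent.Helper9.TC2
/-- The rotated relators. -/
noncomputable def rotT : WT := (WT.node 36 (WT.node 18 (WT.node 9 (WT.node 4 (WT.node 2 (WT.node 1 (WT.leaf [0, 6, 0, 6]) (WT.leaf [0, 2, 0, 2])) (WT.node 3 (WT.leaf [0, 3, 0, 3]) (WT.leaf [0, 4, 0, 4]))) (WT.node 6 (WT.node 5 (WT.leaf [0, 5, 0, 5]) (WT.leaf [0, 2, 1, 0, 2, 1, 0, 4, 2, 1])) (WT.node 7 (WT.leaf [0, 4, 2, 1, 0, 2, 1, 0, 2, 1]) (WT.node 8 (WT.leaf [0, 1, 0, 1, 0, 1, 0, 1]) (WT.leaf [0, 2, 1, 0, 4, 2, 1, 0, 2, 1]))))) (WT.node 13 (WT.node 11 (WT.node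 10 (WT.leaf [1, 6, 1, 6]) (WT.leaf [1, 2, 1, 2, 1, 2])) (WT.node 12 (WT.leaf [1, 3, 1, 3]) (WT.leaf [1, 4, 1, 4]))) (WT.node 15 (WT.node 14 (WT.leaf [1, 5, 1, 5]) (WT.leaf [1, 0, 2, 1, 0, 4, 2, 1, 0, 2])) (WT.node 16 (WT.leaf [1, 0, 2, 1, 0, 2, 1, 0, 4, 2]) (WT.node 17 (WT.leaf [1, 0, 1, 0, 1, 0, 1, 0]) (WT.leaf [1, 0, 4, 2, 1, 0, 2, 1, 0, 2])))))) (WT.node 27 (WT.node 22 (WT.node 20 (WT.node 19 (WT.leaf [2, 6, 2, 6]) (WT.leaf [2, 4, 2, 4])) (WT.node 21 (WT.leaf [2, 5, 2, 5]) (WT.leaf [2, 1, 2, 1, 2, 1]))) (WT.node 24 (WT.node 23 (WT.leaf [2, 3, 2, 3, 2, 3, 2, 3, 2, 0, 3]) (WT.leaf [2, 0, 2, 0])) (WT.node 25 (WT.leaf [2, 3, 2, 3, 2, 0, 3, 2, 3, 2, 3]) (WT.node 26 (WT.leaf [2, 3, 2, 3, 2, 3, 2, 3, 2, 3, 2, 3, 2, 3, 2, 3, 2, 3, 2, 3]) (WT.leaf [2, 3, 5, 6, 2, 3, 5, 6, 2, 3, 5, 6, 2, 3, 5, 6]))))) (WT.node 31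 (WT.node 29 (WT.node 28 (WT.leaf [2, 1, 0, 2, 1, 0, 2, 1, 0, 4]) (WT.leaf [2, 0, 3, 2, 3, 2, 3, 2, 3, 2, 3])) (WT.node 30 (WT.leaf [2, 3, 2, 0, 3, 2, 3, 2, 3, 2, 3]) (WT.leaf [2, 1, 0, 4, 2, 1, 0, 2, 1, 0]))) (WT.node 33 (WT.node 32 (WT.leaf [2, 1, 0, 2, 1, 0, 4, 2, 1, 0]) (WT.leaf [2, 3, 2, 3, 2, 3, 2, 0, 3, 2, 3])) (WT.node 34 (WT.leaf [3, 1, 3, 1]) (WT.node 35 (WT.leaf [3, 4, 3, 4, 3, 4]) (WT.leaf [3, 5, 3, 5, 3, 5]))))))) (WT.node 54 (WT.node 45 (WT.node 40 (WT.node 38 (WT.node 37 (WT.leaf [3, 5, 6, 2, 3, 5, 6, 2, 3, 5, 6, 2, 3, 5, 6, 2]) (WT.leaf [3, 2, 3, 2, 3, 2, 3, 2, 0, 3, 2])) (WT.node 39 (WT.leaf [3, 6, 3, 6, 3, 6]) (WT.leaf [3, 0, 3, 0]))) (WT.node 42 (WT.node 41 (WT.leaf [3, 2, 3, 2, 3, 2, 0, 3, 2, 3, 2]) (WT.leaf [3, 2, 0, 3, 2, 3, 2, 3, 2, 3, 2])) (WT.node 43 (WT.leaf [3, 2, 3, 2, 3, 2, 3, 2,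 3, 2, 3, 2, 3, 2, 3, 2, 3, 2, 3, 2]) (WT.node 44 (WT.leaf [3, 2, 3, 2, 3, 2, 3, 2, 3, 2, 0]) (WT.leaf [3, 2, 3, 2, 0, 3, 2, 3, 2, 3, 2]))))) (WT.node 49 (WT.node 47 (WT.node 46 (WT.leaf [4, 1, 4, 1]) (WT.leaf [4, 6, 4, 6])) (WT.node 48 (WT.leaf [4, 2, 4, 2]) (WT.leaf [4, 5, 4, 5]))) (WT.node 51 (WT.node 50 (WT.leaf [4, 2, 1, 0, 2, 1, 0, 2, 1, 0]) (WT.leaf [4, 3, 4, 3, 4, 3])) (WT.node 52 (WT.leaf [4, 0, 4, 0]) (WT.node 53 (WT.leaf [4, 6, 5, 6, 5]) (WT.leaf [5, 1, 5, 1])))))) (WT.node 63 (WT.node 58 (WT.node 56 (WT.node 55 (WT.leaf [5, 6, 5, 4, 6]) (WT.leaf [5, 2, 5, 2])) (WT.node 57 (WT.leaf [5, 4, 5, 4]) (WT.leaf [5, 3, 5, 3, 5, 3]))) (WT.node 60 (WT.node 59 (WT.leaf [5, 6, 5, 6, 5, 6, 5, 6]) (WT.leaf [5, 6, 2, 3, 5, 6, 2, 3, 5, 6, 2, 3, 5, 6, 2, 3])) (WT.node 61 (WT.leaf [5, 0, 5, 0]) (WT.node 62 (WT.leaf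 [5, 4, 6, 5, 6]) (WT.leaf [6, 3, 6, 3, 6, 3]))))) (WT.node 67 (WT.node 65 (WT.node 64 (WT.leaf [6, 2, 6, 2]) (WT.leaf [6, 4, 6, 4])) (WT.node 66 (WT.leaf [6, 5, 4, 6, 5]) (WT.leaf [6, 1, 6, 1]))) (WT.node 69 (WT.node 68 (WT.leaf [6, 5, 6, 5, 6, 5, 6, 5]) (WT.leaf [6, 0, 6, 0])) (WT.node 70 (WT.leaf [6, 5, 6, 5, 4]) (WT.node 71 (WT.leaf [6, 2, 3, 5, 6, 2, 3, 5, 6, 2, 3, 5, 6, 2, 3, 5]) (WT.leaf [0, 3, 2, 3, 2, 3, 2, 3, 2, 3, 2]))))))))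

/-- The sources of the rotated relators: relator and rotation. -/
def rotSrc : List (ℕ × ℕ) := [(6, 2), (2, 2), (3, 2), (4, 2), (5, 2), (50, 3), (50, 9), (1, 2), (50, 6), (13, 2), (9, 2), (10, 2), (11, 2), (12, 2), (50, 5), (50, 2), (1, 1), (50, 8), (20, 2), (18, 2), (19, 2), (9, 1), (51, 2), (2, 1), (51, 6), (17, 2), (52, 4), (50, 1), (51, 10), (51, 8), (50, 7), (50, 4), (51, 4), (10, 1), (25, 2), (26, 2), (52, 1), (51, 3), (27, 2), (3, 1), (51, 5), (51, 9), (17, 1), (51, 1), (51, 7), (11, 1), (34, 2), (18, 1), (33, 2), (50, 0), (25, 1), (4, 1), (49, 0), (12, 1), (49, 2), (19, 1), (33, 1), (26, 1), (41, 2), (52, 2), (5, 1), (49, 4), (27, 1), (20, 1), (34, 1), (49, 3), (13, 1), (41, 1), (6, 1), (49, 1), (52, 3), (51, 0)]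

/-- The relators, as words of columns. -/
def relWords : List (List ℕ) := [[0, 0], [0, 1, 0, 1, 0, 1, 0, 1], [0, 2, 0, 2], [0, 3, 0, 3], [0, 4, 0, 4], [0, 5, 0, 5], [0, 6, 0, 6], [1, 0, 1, 0, 1, 0, 1, 0], [1, 1], [1, 2, 1, 2, 1, 2], [1, 3, 1, 3], [1, 4, 1, 4], [1, 5, 1, 5], [1, 6, 1, 6], [2, 0, 2, 0], [2, 1, 2, 1, 2, 1], [2, 2], [2, 3, 2, 3, 2, 3, 2, 3, 2, 3, 2, 3, 2, 3, 2, 3, 2, 3, 2, 3], [2, 4, 2, 4], [2, 5, 2, 5], [2, 6, 2, 6], [3, 0, 3, 0], [3, 1, 3, 1], [3, 2, 3, 2, 3, 2, 3, 2, 3, 2, 3, 2, 3, 2, 3, 2, 3, 2, 3, 2], [3, 3], [3, 4, 3, 4, 3, 4], [3, 5, 3, 5, 3, 5], [3, 6, 3, 6, 3, 6], [4, 0, 4, 0], [4, 1, 4, 1], [4, 2, 4, 2], [4, 3, 4, 3, 4, 3], [4, 4], [4, 5, 4, 5], [4, 6, 4, 6], [5, 0, 5, 0], [5, 1, 5, 1], [5, 2, 5, 2], [5, 3, 5, 3, 5, 3], [5, 4, 5, 4], [5, 5], [5, 6, 5, 6, 5, 6, 5, 6], [6, 0, 6, 0], [6,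 1, 6, 1], [6, 2, 6, 2], [6, 3, 6, 3, 6, 3], [6, 4, 6, 4], [6, 5, 6, 5, 6, 5, 6, 5], [6, 6], [4, 6, 5, 6, 5], [4, 2, 1, 0, 2, 1, 0, 2, 1, 0], [0, 3, 2, 3, 2, 3, 2, 3, 2, 3, 2], [2, 3, 5, 6, 2, 3, 5, 6, 2, 3, 5, 6, 2, 3, 5, 6]]

/-- The words of the auxiliary columns. -/
def aux : List (List ℕ) := [[2, 3, 2, 3]]

/-- The words checked on the permutation model, with auxiliary columns. -/
def mwordsA : List (List ℕ) := [[0, 1, 0, 1, 0, 1, 0, 1], [0, 2, 0, 2], [0, 3, 0, 3], [0, 4, 0, 4], [0, 5, 0, 5], [0, 6, 0, 6], [1, 2, 1, 2, 1, 2], [1, 3, 1, 3], [1, 4, 1, 4], [1, 5, 1, 5], [1, 6, 1, 6], [7, 7, 7, 7, 7], [2, 4, 2, 4], [2, 5, 2, 5], [2, 6, 2, 6], [3, 4, 3, 4, 3, 4], [3, 5, 3, 5, 3, 5], [3, 6, 3, 6, 3, 6], [4, 5, 4, 5], [4, 6, 4, 6], [5, 6, 5, 6, 5, 6, 5, 6], [4, 6, 5, 6, 5], [4, 2, 1, 0, 2, 1, 0, 2, 1, 0], [0,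 3, 2, 3, 2, 3, 2, 3, 2, 3, 2], [2, 3, 5, 6, 2, 3, 5, 6, 2, 3, 5, 6, 2, 3, 5, 6]]

/-- The table. -/
noncomputable def tab : Tab where
  k := 7
  inv := fun c => c
  N := 9972
  n := 2058
  Tmax := 64768
  wn := 14
  mn := 0x3fff
  subs := [[0], [2], [3], [4], [5], [0, 1, 0, 1], [1, 2, 3, 4, 1, 2, 3, 4, 1, 2, 3, 4, 1, 2, 3, 4, 1, 2, 3, 4, 1, 2, 3, 4, 1, 2, 3, 4]]
  rot := fun i => rotT.getF i
  ent := fun c i => bget2 entT_0 5 9 30 0x3fffffff 511 c i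
  cer := fun c i => bget2 cerT_0 5 9 21 0x1fffff 511 c i
  tau := fun c i => bget2 tauT_0 2 10 12 0xfff 1023 c i
  lk := fun i => bget lkT_0 9 30 0x3fffffff 511 i
  lc := fun i => bget lcT_0 8 33 0x1ffffffff 255 i
  pn := fun i => bget pnT_0 9 17 0x1ffff 511 i
  cls := fun i => bget clsT_0 10 12 0xfff 1023 i
  rep := fun i => bget repT_0 10 14 0x3fff 1023 i

/-- The straight line program of the further columns. -/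
def slp : List (ℕ × List ℕ) := [(0, [2, 3, 2, 3]), (0, [3, 4]), (0, [0, 8]), (0, [6, 0]), (0, [9, 10]), (0, [1, 0]), (0, [11, 12]), (0, [4, 0]), (0, [13, 14]), (0, [1, 5]), (0, [15, 16]), (0, [2, 12]), (0, [17, 18]), (0, [14, 0]), (0, [19, 20]), (0, [8, 18]), (0, [21, 22]), (0, [12, 5]), (0, [23, 24]), (0, [10, 24]), (0, [25, 26]), (0, [18, 22]), (0, [27, 28]), (0, [16, 12]), (0, [29, 30]), (0, [14, 20]), (0, [31, 32]), (0, [14, 16]), (0, [33, 34]), (0, [10, 2]), (0, [35, 36]), (0, [0, 28]), (0, [37, 38]), (0, [34, 32]), (0, [39, 40]), (0, [40, 38]), (0, [41, 42]), (0, [42, 26]), (0, [43, 44]), (0, [22, 30]), (0, [45, 46]), (0, [46, 44]), (0, [47, 48]), (0, [36, 26]), (0, [49, 50]), (0, [50, 16]), (0, [51, 52]), (0, [30, 52]), (0, [53, 54]), (0, [40, 48]), (0, [55, 56]), (0, [2, 56]), (0, [57, 58]), (0, [28,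 40]), (0, [59, 60]), (0, [54, 32]), (0, [61, 62]), (0, [40, 54]), (0, [63, 64]), (0, [54, 64]), (0, [65, 66]), (0, [58, 36]), (0, [67, 68]), (0, [66, 30]), (0, [69, 70]), (0, [44, 66]), (0, [71, 72]), (0, [58, 68]), (0, [73, 74]), (0, [54, 58]), (0, [75, 76]), (0, [62, 72]), (0, [77, 78]), (0, [66, 76]), (0, [79, 80]), (0, [72, 56]), (0, [81, 82]), (0, [56, 70]), (0, [83, 84]), (0, [60, 78]), (0, [85, 86]), (0, [60, 58]), (0, [87, 88]), (0, [82, 58]), (0, [89, 90]), (0, [70, 86]), (0, [91, 92]), (0, [74, 66]), (0, [93, 94]), (0, [84, 90]), (0, [95, 96]), (0, [90, 74]), (0, [97, 98]), (0, [96, 74]), (0, [99, 100]), (0, [74, 100]), (0, [101, 102]), (0, [92, 94]), (0, [103, 104]), (0, [100, 16]), (0, [105, 106]), (0, [102, 94]), (0, [107, 108]), (0, [80, 104]), (0, [109, 110]), (0, [108, 58]), (0, [111, 112]),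 (0, [110, 98]), (0, [113, 114]), (0, [100, 108]), (0, [115, 116]), (0, [112, 88]), (0, [117, 118]), (0, [80, 98]), (0, [119, 120]), (0, [100, 106]), (0, [121, 122]), (0, [80, 94]), (0, [123, 124]), (0, [70, 120]), (0, [125, 126]), (0, [124, 100]), (0, [127, 128]), (0, [1, 6, 3, 2, 1, 0, 5, 3, 2, 3, 4, 129]), (1, [130]), (0, [88, 118]), (0, [129, 132]), (0, [2, 131, 131, 0, 5, 131, 1, 131, 3, 4, 3, 131, 133]), (1, [134]), (0, [114, 128]), (0, [133, 136]), (0, [3, 4, 135, 5, 130, 134, 130, 134, 0, 1, 131, 0, 3, 6, 5, 137]), (0, [126, 132]), (0, [137, 139]), (0, [100, 116]), (0, [140, 141]), (0, [4, 3, 134, 131, 131, 0, 134, 1, 131, 138, 142]), (1, [138])]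

/-- The levels: base point, generating columns, size of the orbit. -/
def levs : List (ℕ × List ℕ × ℕ) := [(0, [0, 1, 2, 3, 4, 5, 6, 143, 138, 144], 2058), (1, [2, 3, 4, 5, 143, 138, 144], 1360), (2, [3, 4, 5, 138, 144], 45), (3, [138], 2), (5, [4, 5], 4), (9, [143], 2), (18, [0], 2)]

/-- A record of the trees of the orbits. -/
noncomputable def lidx : ℕ → ℕ → ℕ := fun c i => bget2 lidxT_0 2 10 12 0xfff 1023 c i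

/-- A record of the trees of the orbits. -/
noncomputable def lpar : ℕ → ℕ → ℕ := fun c i => bget2 lparT_0 2 10 12 0xfff 1023 c i

/-- A record of the trees of the orbits. -/
noncomputable def lgi : ℕ → ℕ → ℕ := fun c i => bget2 lgiT_0 1 12 4 0xf 4095 c i

/-- The word of the element of prime power order. -/
def xw : List ℕ := [5, 6, 3]


/-- The orbit certificate. -/
noncomputable def orb : OrbData where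
  lab := fun i => bget labT_0 12 3 0x7 4095 i
  dep := fun i => bget depT_0 11 5 0x1f 2047 i
  oj := fun i => bget ojT_0 12 3 0x7 4095 i
  root := fun i => bget rootT_0 11 7 0x7f 2047 i

end Cfsg.Agent.Helper9.TCData.HeB0
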