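import Cfsg.Agent.Lib.Helper9.TCData.HeB0.Main

set_option autoImplicit false
set_option maxRecDepth 1000000

namespace Cfsg.Agent.Helper9.TCData.HeB0
open Cfsg.Agent.Helper9.TC2

theorem e0_0 : allRange 0 1762 (fun u => chkE tab 0 u) = true := by decide +kernel

theorem e0_1 : allRange 1762 1872 (fun u => chkE tab 0 u) = true := by decide +kernel

theorem e0_2 : allRange 3634 2135 (fun u => chkE tab 0 u) = true := by decide +kernel

theorem e0_3 : allRange 5769 4112 (fun u => chkE tab 0 u) = true := by decide +kernel

theorem e0_4 : allRange 9881 91 (fun u => chkE tab 0 u) = true := by decide +kernel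

theorem e1_0 : allRange 0 2250 (fun u => chkE tab 1 u) = true := by decide +kernel

theorem e1_1 : allRange 2250 2430 (fun u => chkE tab 1 u) = true := by decide +kernel

theorem e1_2 : allRange 4680 4907 (fun u => chkE tab 1 u) = true := by decide +kernel


end Cfsg.Agent.Helper9.TCData.HeB0
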