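import Cfsg.Agent.Lib.Helper9.TCData.HeB0.Main

set_option autoImplicit false
set_option maxRecDepth 1000000

namespace Cfsg.Agent.Helper9.TCData.HeB0
open Cfsg.Agent.Helper9.TC2

theorem sl_80 : allRange 1440 18 (fun u => chkSlp tab slp u) = true := by decide +kernel

theorem sl_81 : allRange 1458 18 (fun u => chkSlp tab slp u) = true := by decide +kernel

theorem sl_82 : allRange 1476 18 (fun u => chkSlp tab slp u) = true := by decide +kernel

theorem sl_83 : allRange 1494 18 (fun u => chkSlp tab slp u) = true := by decide +kernel

theorem sl_84 : allRange 1512 18 (fun u => chkSlp tab slp u) = true := by decide +kernel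

theorem sl_85 : allRange 1530 18 (fun u => chkSlp tab slp u) = true := by decide +kernel

theorem sl_86 : allRange 1548 18 (fun u => chkSlp tab slp u) = true := by decide +kernel

theorem sl_87 : allRange 1566 18 (fun u => chkSlp tab slp u) = true := by decide +kernel


end Cfsg.Agent.Helper9.TCData.HeB0
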